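import Cfsg.Agent.Lib.Spor.HN.Words

/-!
Relators of `G₂(5)` on the letters `a, b, c, c₅, e, d` and their inverses, and words between these generators and
the root elements.
-/

set_option autoImplicit false

namespace CfsgLib.Spor.Ly

/-- Relators on `a`, `b`. -/
def leviRels : List (List ℕ) := [
  [0, 0, 0, 0, 0, 0, 0, 0],
  [2, 2, 2, 2, 2],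
  [0, 2, 0, 2, 0, 2, 0, 2],
  [1, 1, 3, 0, 0, 2],
  [1, 3, 0, 2, 1, 3, 0, 2, 1, 3, 0, 2]]

/-- Relators on `a`, `b`, `c`, `c₅`. -/
def radicalRels : List (List ℕ) := [
  [6, 1, 5, 0, 5, 1, 4, 0, 4],
  [4, 4, 4, 4, 4],
  [6, 6, 6, 6, 6],
  [5, 7, 4, 6],
  [1, 5, 0, 7, 1, 4, 0, 6],
  [3, 5, 2, 7, 3, 4, 2, 6],
  [2, 5, 3, 7, 2, 4, 3, 6],
  [5, 3, 5, 2, 4, 3, 4, 2, 6, 6],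
  [5, 2, 5, 3, 4, 2, 4, 3, 7, 7],
  [1, 5, 0, 3, 5, 2, 1, 4, 0, 3, 4, 2, 6],
  [1, 5, 0, 2, 5, 3, 1, 4, 0, 2, 4, 3],
  [3, 5, 2, 2, 5, 3, 3, 4, 2, 2, 4, 3, 6],
  [1, 1, 4, 0, 0, 4, 4],
  [1, 3, 4, 2, 0, 2, 5, 3, 5, 3, 4, 4, 2],
  [1, 2, 4, 3, 0, 2, 5, 3, 5, 2, 5, 3, 3, 4, 2, 1, 4, 0, 5],
  [1, 6, 0, 7, 7],
  [3, 1, 4, 0, 2, 2, 4, 3, 4, 2, 4, 3, 3, 5, 2, 1, 5, 0],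
  [3, 3, 4, 2, 4, 4, 2, 2, 5, 3, 5, 5],
  [3, 6, 2, 7]]

/-- Relators involving `e`, `d`. -/
def outerRels : List (List ℕ) := [
  [8, 11, 5, 11, 2, 1, 3, 5, 11, 1, 5, 0, 5, 1, 4, 0, 2, 2],
  [8, 8],
  [9, 4, 8, 4, 3, 3, 5],
  [9, 3, 4, 2, 8, 0, 2, 4, 3, 4, 1, 5, 3, 3],
  [9, 2, 4, 3, 8, 2, 5, 3, 3, 4, 3],
  [9, 6, 8, 2, 4, 3, 5, 3, 4, 2, 5],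
  [8, 0, 0, 8, 2, 4, 3, 7, 5, 1, 2, 1, 3, 3, 1],
  [9, 2, 8, 2, 4, 4, 3, 3, 4, 2, 5],
  [8, 0, 2, 2, 0, 3, 0, 8, 2, 4, 3, 7, 5, 1, 1],
  [8, 1, 4, 0, 8, 1, 5, 0, 8, 1, 4, 0, 2, 5, 3, 0, 3, 4, 2, 0, 0, 0],
  [10, 9, 3, 1, 4, 9, 1, 9, 1, 6, 2, 4, 3, 4, 2, 0, 3, 3, 1],
  [10, 10, 1, 1, 1, 1],
  [3, 11, 2, 10],
  [11, 0, 10, 1, 1, 1],
  [10, 6, 10, 6, 10, 6, 10, 6, 10, 6],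
  [10, 6, 10, 7, 10, 6, 1, 1]]

/-- Words giving the root elements, numbered as the roots. -/
def rootWords : List (List ℕ) := [
  [1, 4, 4, 0, 2, 4, 3, 10, 4, 4, 4, 4, 3, 4, 2, 4, 4, 4, 4, 2, 4, 3, 4, 4, 4, 4, 3, 4, 2, 4, 4, 4, 4, 2, 4, 3, 4, 4, 4, 4, 3, 4, 2, 4, 4, 4, 4, 2, 4, 3, 4, 4, 4, 4, 3, 4, 2, 4, 4, 4, 4, 2, 4, 3, 11, 1, 4, 4, 0, 2, 4, 0, 2, 0, 2, 2, 0, 2, 0, 2, 0, 2, 0, 2, 2, 0, 2, 0, 2, 0, 2, 0, 2, 2, 0, 2, 0, 2, 0, 2, 0, 2, 2, 0, 2, 0, 2, 2, 10, 4, 4, 4, 4, 3, 4, 2, 4, 4, 4, 4, 2, 4, 3, 11, 2, 2, 2, 2, 0, 2, 0, 2, 2, 0, 2, 0, 2, 2, 2, 2, 2, 1, 4, 4, 0, 2, 4, 3, 1, 4, 4, 0, 2, 4, 3, 1, 4, 4, 0, 2, 4, 3, 1, 4, 4, 0, 2, 4, 3, 10, 4, 4, 4, 4, 3, 4, 2, 4, 4, 4, 4, 2,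 4, 3, 11, 1, 4, 4, 0, 2, 4, 3, 1, 4, 4, 0, 2, 4, 3, 1, 4, 4, 0, 2, 4, 3, 1, 4, 4, 0, 2, 4, 3],
  [2, 0, 2, 0, 2, 2, 0, 2, 0, 2, 0, 2, 0, 2, 2, 0, 2, 0, 2, 0, 2, 0, 2, 2, 0, 2, 0, 2, 0, 2, 0, 2, 2, 0, 2, 0, 2, 2, 10, 4, 4, 4, 4, 3, 4, 2, 4, 4, 4, 4, 2, 4, 3, 11, 2, 2, 2, 2, 0, 2, 0, 2, 2, 0, 2, 0, 2, 2, 2, 2, 2],
  [2, 0, 2, 0, 2, 2, 0, 2, 0, 2, 0, 2, 0, 2, 2, 0, 2, 0, 2, 0, 2, 0, 2, 2, 0, 2, 0, 2, 0, 2, 0, 2, 2, 0, 2, 0, 2, 2, 1, 4, 4, 0, 2, 4, 3, 10, 4, 4, 4, 4, 3, 4, 2, 4, 4, 4, 4, 2, 4, 3, 4, 4, 4, 4, 3, 4, 2, 4, 4, 4, 4, 2, 4, 3, 4, 4, 4, 4, 3, 4, 2, 4, 4, 4, 4, 2, 4, 3, 4, 4, 4, 4, 3, 4, 2, 4, 4, 4, 4, 2, 4, 3, 11, 1, 4, 4, 0, 2, 4, 3, 0, 2, 0, 2, 2, 0, 2, 0, 2, 1, 4,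 4, 0, 2, 4, 3, 1, 4, 4, 0, 2, 4, 3, 1, 4, 4, 0, 2, 4, 3, 1, 4, 4, 0, 2, 4, 3, 10, 4, 4, 4, 4, 3, 4, 2, 4, 4, 4, 4, 2, 4, 3, 11, 1, 4, 4, 0, 2, 4, 3, 1, 4, 4, 0, 2, 4, 3, 1, 4, 4, 0, 2, 4, 3, 1, 4, 4, 0, 2, 4, 2, 2, 2, 0, 2, 0, 2, 2, 0, 2, 0, 2, 2, 2, 2, 2],
  [1, 4, 4, 0, 2, 4, 3, 10, 4, 4, 4, 4, 3, 4, 2, 4, 4, 4, 4, 2, 4, 3, 4, 4, 4, 4, 3, 4, 2, 4, 4, 4, 4, 2, 4, 3, 4, 4, 4, 4, 3, 4, 2, 4, 4, 4, 4, 2, 4, 3, 4, 4, 4, 4, 3, 4, 2, 4, 4, 4, 4, 2, 4, 3, 11, 1, 4, 4, 0, 2, 4, 3, 0, 2, 0, 2, 2, 0, 2, 0, 2, 1, 4, 4, 0, 2, 4, 3, 1, 4, 4, 0, 2, 4, 3, 1, 4, 4, 0, 2, 4, 3, 1, 4, 4, 0, 2, 4, 3, 10, 4, 4, 4, 4, 3, 4, 2, 4, 4, 4, 4, 2, 4, 3, 11, 1, 4, 4, 0, 2, 4, 3, 1, 4, 4, 0, 2, 4, 3,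 1, 4, 4, 0, 2, 4, 3, 1, 4, 4, 0, 2, 4, 3],
  [0, 2, 0, 2, 2, 0, 2, 0, 2],
  [10, 4, 4, 4, 4, 3, 4, 2, 4, 4, 4, 4, 2, 4, 3, 11],
  [1, 4, 4, 0, 2, 4, 3],
  [2],
  [1, 4, 4, 0, 2, 4, 3, 10, 4, 4, 4, 4, 3, 4, 2, 4, 4, 4, 4, 2, 4, 3, 4, 4, 4, 4, 3, 4, 2, 4, 4, 4, 4, 2, 4, 3, 4, 4, 4, 4, 3, 4, 2, 4, 4, 4, 4, 2, 4, 3, 4, 4, 4, 4, 3, 4, 2, 4, 4, 4, 4, 2, 4, 3, 11, 1, 4, 4, 0, 2, 4, 1, 4, 4, 0, 2, 4, 3, 1, 4, 4, 0, 2, 4, 3, 1, 4, 4, 0, 2, 4, 3, 1, 4, 4, 0, 2, 4, 3, 10, 4, 4, 4, 4, 3, 4, 2, 4, 4, 4, 4, 2, 4, 3, 11, 1, 4, 4, 0, 2, 4, 3, 1, 4, 4, 0, 2, 4, 3, 1, 4, 4, 0, 2, 4, 3, 1, 4, 4, 0, 2, 4, 3],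
  [2, 0, 2, 0, 2, 2, 0, 2, 0, 2, 0, 2, 0, 2, 2, 0, 2, 0, 2, 0, 2, 0, 2, 2, 0, 2, 0, 2, 0, 2, 0, 2, 2, 0, 2, 0, 2, 2, 1, 4, 4, 0, 2, 4, 3, 10, 4, 4, 4, 4, 3, 4, 2, 4, 4, 4, 4, 2, 4, 3, 4, 4, 4, 4, 3, 4, 2, 4, 4, 4, 4, 2, 4, 3, 4, 4, 4, 4, 3, 4, 2, 4, 4, 4, 4, 2, 4, 3, 4, 4, 4, 4, 3, 4, 2, 4, 4, 4, 4, 2, 4, 3, 11, 1, 4, 4, 0, 2, 4, 1, 4, 4, 0, 2, 4, 3, 1, 4, 4, 0, 2, 4, 3, 1, 4, 4, 0, 2, 4, 3, 1, 4, 4, 0, 2, 4, 3, 10, 4, 4, 4, 4, 3, 4, 2, 4, 4, 4, 4, 2, 4, 3, 11, 1, 4, 4, 0, 2, 4, 3, 1, 4, 4, 0, 2, 4, 3, 1, 4, 4, 0, 2, 4, 3, 1, 4, 4, 0, 2, 4, 2, 2, 2, 0, 2, 0, 2, 2, 0, 2, 0, 2, 2, 2, 2, 2],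
  [2, 0, 2, 0, 2, 2, 0, 2, 0, 2, 0, 2, 0, 2, 2, 0, 2, 0, 2, 0, 2, 0, 2, 2, 0, 2, 0, 2, 0, 2, 0, 2, 2, 0, 2, 0, 2, 2, 1, 4, 4, 0, 2, 4, 2, 2, 2, 0, 2, 0, 2, 2, 0, 2, 0, 2, 2, 2, 2, 2],
  [1, 4, 4, 0, 2, 4, 3, 10, 4, 4, 4, 4, 3, 4, 2, 4, 4, 4, 4, 2, 4, 3, 4, 4, 4, 4, 3, 4, 2, 4, 4, 4, 4, 2, 4, 3, 4, 4, 4, 4, 3, 4, 2, 4, 4, 4, 4, 2, 4, 3, 4, 4, 4, 4, 3, 4, 2, 4, 4, 4, 4, 2, 4, 3, 11, 1, 4, 4, 0, 2, 4, 0, 2, 0, 2, 2, 0, 2, 0, 2, 0, 2, 0, 2, 2, 0, 2, 0, 2, 0, 2, 0, 2, 2, 0, 2, 0, 2, 0, 2, 0, 2, 2, 0, 2, 0, 2, 2, 1, 4, 4, 0, 2, 4, 2, 2, 2, 0, 2, 0, 2, 2, 0, 2, 0, 2, 2, 2, 2, 2, 1, 4, 4, 0, 2, 4, 3, 1, 4, 4, 0, 2, 4, 3, 1, 4, 4, 0, 2, 4, 3, 1, 4, 4, 0, 2, 4, 3, 10, 4, 4, 4, 4, 3,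 4, 2, 4, 4, 4, 4, 2, 4, 3, 11, 1, 4, 4, 0, 2, 4, 3, 1, 4, 4, 0, 2, 4, 3, 1, 4, 4, 0, 2, 4, 3, 1, 4, 4, 0, 2, 4, 3]]

/-- Words in root elements giving `a`, `b`, `c`, `d`. -/
def genWords : List (List ℕ) := [
  [24, 24, 22, 22, 24, 24, 24, 24, 24, 24, 22, 24, 24, 24, 24, 24, 24, 22, 22, 24, 24, 24, 24, 24, 24, 22, 24, 24, 24, 24, 26, 20, 24, 24, 22, 22, 24, 24, 24, 24, 24, 24, 22, 24, 24, 24, 24],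
  [26],
  [24, 22, 22, 22, 22, 24, 26, 24, 24, 24, 24, 22, 24, 24, 24, 24, 26, 20, 20, 20, 20, 26, 24, 22, 22, 22, 22, 24, 26, 26, 24, 24, 24, 24, 22, 24, 24, 24, 24, 26, 26, 26, 26, 20, 26, 26, 26, 26, 26, 20, 20, 20, 20, 26, 24, 24, 26, 26, 26, 26, 20, 26, 26, 26, 26, 24, 22, 22, 22, 22, 24, 26, 20, 20, 20, 20, 26, 24, 24, 26, 26, 26, 26, 20, 26, 26, 26, 26, 24, 24, 24, 24, 22, 24, 24, 24, 24],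
  [24, 22, 22, 22, 22, 24, 26, 20, 20, 20, 20, 26, 22, 26, 26, 26, 26, 20, 26, 26, 26, 26, 24, 24, 24, 24, 22, 24, 24, 24, 24, 24, 22, 22, 22, 22, 24, 26, 20, 20, 20, 20, 26, 24, 26, 26, 26, 26, 20, 26, 26, 26, 26, 24, 24, 24, 24, 22, 24, 24, 24, 24, 24, 22, 22, 22, 22, 24, 26, 20, 20, 20, 20, 26, 24, 26, 26, 26, 26, 20, 26, 26, 26, 26, 24, 24, 24, 24, 22, 24, 24, 24, 24, 24, 22, 22, 22, 22, 24, 26, 20, 20, 20, 20, 26, 24, 26, 26, 26, 26, 20, 26, 26, 26, 26, 24, 24, 24, 24, 22, 24, 24, 24, 24, 24, 22, 22, 22, 22, 24, 26, 20, 20, 20, 20, 26, 24, 26, 26, 26, 26, 20, 26, 26, 26, 26, 24, 24, 24, 24, 22, 24, 24, 24, 24, 24, 22, 22, 22, 22, 24, 26, 20, 20, 20, 20, 26, 22, 26, 26,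 26, 26, 20, 26, 26, 26, 26, 24, 24, 24, 24, 22, 24, 24, 24, 24]]

/-- The images of the relators of the presentation in the letters of the large representation. -/
def bigRels : List (List ℕ) := [
  [0, 0, 0, 0, 0, 0, 0, 0],
  [2, 2, 2, 2, 2],
  [0, 2, 0, 2, 0, 2, 0, 2],
  [1, 1, 3, 0, 0, 2],
  [1, 3, 0, 2, 1, 3, 0, 2, 1, 3, 0, 2],
  [],
  [],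
  [],
  [],
  [6, 1, 5, 0, 5, 1, 4, 0, 4],
  [4, 4, 4, 4, 4],
  [6, 6, 6, 6, 6],
  [5, 7, 4, 6],
  [1, 5, 0, 7, 1, 4, 0, 6],
  [3, 5, 2, 7, 3, 4, 2, 6],
  [2, 5, 3, 7, 2, 4, 3, 6],
  [5, 3, 5, 2, 4, 3, 4, 2, 6, 6],
  [5, 2, 5, 3, 4, 2, 4, 3, 7, 7],
  [1, 5, 0, 3, 5, 2, 1, 4, 0, 3, 4, 2, 6],
  [1, 5, 0, 2, 5, 3, 1, 4, 0, 2, 4, 3],
  [3, 5, 2, 2, 5, 3, 3, 4, 2, 2, 4, 3, 6],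
  [1, 1, 4, 0, 0, 4, 4],
  [1, 3, 4, 2, 0, 2, 5, 3, 5, 3, 4, 4, 2],
  [1, 2, 4, 3, 0, 2, 5, 3, 5, 2, 5, 3, 3, 4, 2, 1, 4, 0, 5],
  [1, 6, 0, 7, 7],
  [3, 1, 4, 0, 2, 2, 4, 3, 4, 2, 4, 3, 3, 5, 2, 1, 5, 0],
  [3, 3, 4, 2, 4, 4, 2, 2, 5, 3, 5, 5],
  [3, 6, 2, 7],
  [8, 11, 5, 11, 2, 1, 3, 5, 11, 1, 5, 0, 5, 1, 4, 0, 2, 2],
  [8, 8],
  [9, 4, 8, 4, 3, 3, 5],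
  [9, 3, 4, 2, 8, 0, 2, 4, 3, 4, 1, 5, 3, 3],
  [9, 2, 4, 3, 8, 2, 5, 3, 3, 4, 3],
  [9, 6, 8, 2, 4, 3, 5, 3, 4, 2, 5],
  [8, 0, 0, 8, 2, 4, 3, 7, 5, 1, 2, 1, 3, 3, 1],
  [9, 2, 8, 2, 4, 4, 3, 3, 4, 2, 5],
  [8, 0, 2, 2, 0, 3, 0, 8, 2, 4, 3, 7, 5, 1, 1],
  [8, 1, 4, 0, 8, 1, 5, 0, 8, 1, 4, 0, 2, 5, 3, 0, 3, 4, 2, 0, 0, 0],
  [10, 9, 3, 1, 4, 9, 1, 9, 1, 6, 2, 4, 3, 4, 2, 0, 3, 3, 1],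
  [10, 10, 1, 1, 1, 1],
  [3, 11, 2, 10],
  [11, 0, 10, 1, 1, 1],
  [10, 6, 10, 6, 10, 6, 10, 6, 10, 6],
  [10, 6, 10, 7, 10, 6, 1, 1],
  [],
  [],
  [],
  [],
  [],
  [],
  [],
  [14, 3, 5, 0, 3, 3, 4, 11, 4, 0, 5, 1, 4, 3, 3, 0, 2, 0, 3, 3],
  [16, 5, 3, 5, 11, 2, 2, 5, 11, 2, 5, 3, 5, 1, 4, 3, 3, 0, 3, 3, 0, 3, 1],
  [18, 10, 4, 3, 0, 4, 0, 10, 4],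
  [],
  [],
  [],
  [],
  [],
  [],
  [],
  [],
  [],
  [],
  [20, 2, 1, 3, 1, 2, 1, 4, 0, 2, 4, 3, 10, 4, 3, 0, 4, 2, 11, 0],
  [22, 10, 2, 5, 0, 5, 1, 5, 11, 4, 4, 0, 3, 4, 3, 5, 0, 2, 2, 1],
  [24, 5, 3, 5, 11, 2, 2, 5, 11, 3, 5, 3, 3, 5, 2, 0, 2, 2, 0, 2, 1, 3],
  [26, 2, 0, 3, 1, 3, 3, 1, 3, 4, 2, 2, 4, 2, 10, 4, 3, 3, 10, 4, 2, 4],
  [28, 2, 2, 0, 2, 4, 2, 2, 5, 1, 4, 0, 10, 4, 1, 2, 4, 1, 10, 4, 0],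
  [30, 2, 1, 2, 2, 1, 2, 4, 2, 0, 3, 10, 4, 2, 0, 3, 10, 4, 0],
  [32, 0, 3, 0, 2, 2, 0, 5, 0, 2, 1, 10, 4, 0, 5, 3, 5, 1, 10],
  [34, 3, 0, 2, 0, 2, 5, 1, 5, 0, 5, 10, 4, 3, 5, 0, 4],
  [13, 4, 12, 1, 3, 4, 1, 2, 4, 3, 0, 2, 0],
  [13, 1, 4, 0, 12, 3, 5, 3, 0, 5, 1, 2, 2],
  [13, 3, 4, 2, 12, 1, 3, 1, 5, 0, 2, 0],
  [13, 2, 4, 3, 12, 3, 1, 2, 5, 3, 0, 2],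
  [13, 6, 12, 4, 2, 2, 5, 1, 3, 5, 2, 0, 3, 3],
  [13, 0, 12, 0, 0, 0],
  [13, 2, 0, 3, 12, 0, 0, 2, 0, 3],
  [13, 2, 2, 0, 3, 3, 12, 0, 2, 2, 1, 3, 3, 1],
  [12, 12, 1, 1],
  [3, 3, 0, 2, 2, 12, 3, 3, 0, 2, 2, 12, 3, 3, 0, 2, 2, 12, 0, 0],
  [18, 12, 20, 12, 28, 12],
  [13, 11, 13, 30, 12, 10, 12, 16],
  [12, 24, 12, 22, 13, 26, 13, 32],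
  [12, 2, 10, 12, 14, 13, 11, 3, 13, 34]]

/-- The letters' words for the generators `c1 c2 c3 c4 a1 a2 a3 a4 u x23 x24 x96 x129 x162 x163 x164 x165 x166 x167 x168 x169`. -/
def bigSubst : List (List ℕ) := [
  [4],
  [1, 4, 0],
  [3, 4, 2],
  [2, 4, 3],
  [0],
  [2, 0, 3],
  [2, 2, 0, 3, 3],
  [3, 3, 0, 2, 2],
  [0, 0],
  [10],
  [11],
  [2, 10],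
  [11, 3],
  [1, 3, 1, 2, 5, 3, 0, 5, 2, 0],
  [3, 3, 0, 4, 1, 2, 4, 2],
  [1, 3, 1, 4, 0, 2, 0],
  [3, 1, 2, 4, 3, 0, 2],
  [2, 2, 1, 3, 4, 2, 0, 4, 3, 3, 5],
  [1, 1, 1],
  [2, 1, 3, 1, 1],
  [0, 2, 2, 0, 3, 3, 1]]

end CfsgLib.Spor.Ly
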