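import Cfsg.Agent.Lib.Spor.Ly.Words
import Cfsg.Agent.Lib.Spor.Ly.LeviIndex.All
import Cfsg.Agent.Lib.Spor.Ly.RadicalIndex.All
import Cfsg.Agent.Lib.Spor.Ly.TopIndex.All

/-!
A group spanned by six elements satisfying the relators has at most `5859000000` elements, by coset derivations
along the chain `1 < ⟨a, b⟩ < ⟨a, b, c⟩`.
-/

set_option autoImplicit false
set_option maxRecDepth 100000

namespace CfsgLib.Spor.Ly

open CfsgLib.Spor.TC CfsgLib.Spor.HN

theorem card_le_of_index {G : Type*} [Group G] {H : Subgroup G} {n m : ℕ} (h : H.index ≠ 0 ∧ H.index ≤ n)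
    (hH : Nat.card H ≠ 0 ∧ Nat.card H ≤ m) : Nat.card G ≠ 0 ∧ Nat.card G ≤ n * m := by
  rw [← Subgroup.index_mul_card H]
  exact ⟨mul_ne_zero h.1 hH.1, Nat.mul_le_mul h.2 hH.2⟩

theorem closure_letters {G : Type*} [Group G] (l : List G) (h : Subgroup.closure {x | x ∈ l} = ⊤) :
    Subgroup.closure (letterVal l '' Set.Iio (2 * l.length)) = ⊤ := by
  refine top_le_iff.1 (h ▸ (Subgroup.closure_le _).2 ?_)
  intro x hx
  obtain ⟨i, hi, rfl⟩ := List.mem_iff_getElem.1 hx
  exact Subgroup.subset_closure ⟨2 * i, by simpa using hi, by simp [letterVal, List.getElem?_eq_getElem hi]⟩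

theorem top_of_list {G : Type*} [Group G] (H : Subgroup G) (l : List H)
    (h : H = Subgroup.closure {x | x ∈ l.map H.subtype}) : Subgroup.closure {x | x ∈ l} = ⊤ := by
  refine Subgroup.map_injective H.subtype_injective ?_
  rw [MonoidHom.map_closure, ← MonoidHom.range_eq_map, Subgroup.range_subtype]
  refine Eq.trans (congrArg Subgroup.closure ?_) h.symm
  ext x
  simp

theorem hold_sub {G : Type*} [Group G] {H : Subgroup G} (l : List H) {rels : List (List ℕ)} {L : List G}
    (hlen : ∀ r ∈ rels, ∀ x ∈ r, x < 2 * l.length) (hL : ∀ i < l.length, (l.map H.subtype).getD i 1 = L.getD i 1)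
    (h : ∀ r ∈ rels, ev (letterVal L) r = 1) : ∀ r ∈ rels, ev (letterVal l) r = 1 := by
  intro r hr
  refine Subtype.ext ?_
  show H.subtype _ = _
  rw [map_ev_letterVal]
  refine Eq.trans (congrArg List.prod (List.map_congr_left fun x hx => ?_)) (h r hr)
  have := hlen r hr x hx
  simp only [letterVal, hL (x / 2) (by omega)]

theorem card_levi {G : Type*} [Group G] (a b : G) (h : ∀ r ∈ leviRels, ev (letterVal [a, b]) r = 1)
    (hgen : Subgroup.closure {x | x ∈ [a, b]} = ⊤) : Nat.card G ≠ 0 ∧ Nat.card G ≤ 480 := by
  have hi := Cert.index_le_signed LeviIndex.steps_ok LeviIndex.rows_ok LeviIndex.row_zero (by norm_num)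
    (letterVal [a, b]) (fun x => letterVal_inv [a, b] x) (letterVal_of_le le_rfl) (fun x hx => invLetter_lt rfl hx)
    (closure_letters [a, b] hgen) (by
      rw [show LeviIndex.cert.rels = leviRels by decide +kernel]
      exact h) (⊥ : Subgroup G) (by
      rw [show LeviIndex.cert.subs = [] from rfl]
      exact fun r hr => absurd hr List.not_mem_nil)
  rw [Subgroup.index_bot] at hi
  exact hi

theorem card_radical {G : Type*} [Group G] (a b c f : G)
    (h : ∀ r ∈ leviRels ++ radicalRels, ev (letterVal [a, b, c, f]) r = 1)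
    (hgen : Subgroup.closure {x | x ∈ [a, b, c, f]} = ⊤) : Nat.card G ≠ 0 ∧ Nat.card G ≤ 3125 * 480 := by
  set H := Subgroup.closure {x | x ∈ [a, b]} with hH
  have hi := Cert.index_le_signed RadicalIndex.steps_ok RadicalIndex.rows_ok RadicalIndex.row_zero (by norm_num)
    (letterVal [a, b, c, f]) (fun x => letterVal_inv [a, b, c, f] x) (letterVal_of_le le_rfl)
    (fun x hx => invLetter_lt rfl hx) (closure_letters [a, b, c, f] hgen) (by
      rw [show RadicalIndex.cert.rels = leviRels ++ radicalRels by decide +kernel]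
      exact h) H (by
      rw [show RadicalIndex.cert.subs = [[0], [2]] from rfl]
      intro r hr
      simp only [List.mem_cons, List.not_mem_nil, or_false] at hr
      rcases hr with rfl | rfl <;> exact Subgroup.subset_closure (by simp [ev, letterVal]))
  refine card_le_of_index hi (card_levi (⟨a, Subgroup.subset_closure (by simp)⟩ : H)
    ⟨b, Subgroup.subset_closure (by simp)⟩ ?_ ?_)
  · refine hold_sub (L := [a, b, c, f]) _ (by simp only [List.length_cons, List.length_nil]; decide +kernel) ?_ fun r hr => h r (List.mem_append_left _ hr)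
    intro i hi
    simp only [List.length_cons, List.length_nil] at hi
    interval_cases i <;> rfl
  · exact top_of_list H _ (by simp [hH])

theorem card_top {G : Type*} [Group G] (a b c f e d : G)
    (h : ∀ r ∈ leviRels ++ radicalRels ++ outerRels, ev (letterVal [a, b, c, f, e, d]) r = 1)
    (hgen : Subgroup.closure {x | x ∈ [a, b, c, f, e, d]} = ⊤) :
    Nat.card G ≠ 0 ∧ Nat.card G ≤ 5859000000 := by
  set H := Subgroup.closure {x | x ∈ [a, b, c, f]} with hH
  have hi := Cert.index_le_signed TopIndex.steps_ok TopIndex.rows_ok TopIndex.row_zero (by norm_num)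
    (letterVal [a, b, c, f, e, d]) (fun x => letterVal_inv [a, b, c, f, e, d] x) (letterVal_of_le le_rfl)
    (fun x hx => invLetter_lt rfl hx) (closure_letters [a, b, c, f, e, d] hgen) (by
      rw [show TopIndex.cert.rels = leviRels ++ radicalRels ++ outerRels by decide +kernel]
      exact h) H (by
      rw [show TopIndex.cert.subs = [[0], [2], [4]] from rfl]
      intro r hr
      simp only [List.mem_cons, List.not_mem_nil, or_false] at hr
      rcases hr with rfl | rfl | rfl <;> exact Subgroup.subset_closure (by simp [ev, letterVal]))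
  have h' := card_le_of_index hi (card_radical (⟨a, Subgroup.subset_closure (by simp)⟩ : H)
    ⟨b, Subgroup.subset_closure (by simp)⟩ ⟨c, Subgroup.subset_closure (by simp)⟩
    ⟨f, Subgroup.subset_closure (by simp)⟩
    (hold_sub (L := [a, b, c, f, e, d]) _ (by simp only [List.length_cons, List.length_nil]; decide +kernel)
      (fun i hi => by simp only [List.length_cons, List.length_nil] at hi; interval_cases i <;> rfl)
      fun r hr => h r (List.mem_append_left _ hr))
    (top_of_list H _ (by simp [hH])))
  exact ⟨h'.1, h'.2.trans (by norm_num)⟩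

end CfsgLib.Spor.Ly
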