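import Cfsg.Agent.Lib.Spor.Ly.Bound
import Cfsg.Agent.Lib.Spor.Ly.Adj.Main
import Cfsg.Agent.Lib.Spor.Ly.Big.Main
import Cfsg.Agent.S1055
import Cfsg.Agent.S1059

/-!
The subgroup spanned by `a, b, c, d` in the presented Lyons group is `G₂(5)`.
-/

set_option autoImplicit false
set_option maxRecDepth 100000

namespace CfsgLib.Spor.Ly

open CfsgLib.Spor.TC CfsgLib.Spor.HN Cfsg.Lie

/-- The free generators `a, b, c, c₅, e, d`. -/
def sixFree : List (FreeGroup (Fin 6)) := (List.finRange 6).map FreeGroup.of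

/-- The relators. -/
def coreSet : Set (FreeGroup (Fin 6)) :=
  {r | ∃ w ∈ leviRels ++ radicalRels ++ outerRels, r = ev (letterVal sixFree) w}

/-- The presented group on six generators. -/
abbrev Core : Type := PresentedGroup coreSet

/-- The map to a group with six elements satisfying the relators. -/
noncomputable def coreHom {H : Type*} [Group H] (v : Fin 6 → H)
    (h : ∀ r ∈ leviRels ++ radicalRels ++ outerRels, ev (letterVal ((List.finRange 6).map v)) r = 1) : Core →* H :=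
  PresentedGroup.toGroup (f := v) (by
    rintro r ⟨w, hw, rfl⟩
    rw [map_ev_letterVal]
    simpa [sixFree, List.map_map, Function.comp_def] using h w hw)

/-- The generators. -/
def coreGens : List Core := (List.finRange 6).map PresentedGroup.of

theorem card_core : Nat.card Core ≠ 0 ∧ Nat.card Core ≤ 5859000000 := by
  have e : coreGens = [PresentedGroup.of 0, PresentedGroup.of 1, PresentedGroup.of 2, PresentedGroup.of 3,
      PresentedGroup.of 4, PresentedGroup.of 5] := rfl
  refine card_top (G := Core) (PresentedGroup.of 0) (PresentedGroup.of 1) (PresentedGroup.of 2) (PresentedGroup.of 3)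
    (PresentedGroup.of 4) (PresentedGroup.of 5) (fun r hr => ?_) ?_
  · have h : PresentedGroup.mk coreSet (ev (letterVal sixFree) r) = 1 :=
      PresentedGroup.one_of_mem ⟨r, hr, rfl⟩
    rw [map_ev_letterVal] at h
    rw [← e]
    rw [sixFree, List.map_map] at h
    exact h
  · rw [← e, eq_top_iff, ← PresentedGroup.closure_range_of]
    refine (Subgroup.closure_le _).2 ?_
    rintro g ⟨i, rfl⟩
    exact Subgroup.subset_closure (List.mem_map.2 ⟨i, List.mem_finRange i, rfl⟩)

/-- The matrices of the six generators. -/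
noncomputable def adjVal (i : Fin 6) : GL chevG2.Idx (ZMod 5) := Adj.gen (i.castLE (by norm_num))

theorem adjVal_list : (List.finRange 6).map adjVal = Adj.six := rfl

/-- The map onto the Chevalley group. -/
noncomputable def adjHom : Core →* GL chevG2.Idx (ZMod 5) :=
  coreHom adjVal (by rw [adjVal_list]; exact Adj.six_rels)

theorem adjHom_of (i : Fin 6) : adjHom (PresentedGroup.of i) = adjVal i := by
  unfold adjHom coreHom
  exact PresentedGroup.toGroup.of _

theorem range_adjHom : adjHom.range = chevG2.group (ZMod 5) := by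
  rw [MonoidHom.range_eq_map, ← PresentedGroup.closure_range_of, MonoidHom.map_closure, ← Adj.closure_six,
    ← adjVal_list]
  refine congrArg Subgroup.closure ?_
  ext g
  constructor
  · rintro ⟨_, ⟨i, rfl⟩, rfl⟩
    exact List.mem_map.2 ⟨i, List.mem_finRange i, (adjHom_of i).symm⟩
  · intro hg
    obtain ⟨i, -, rfl⟩ := List.mem_map.1 hg
    exact ⟨_, ⟨i, rfl⟩, adjHom_of i⟩

theorem core_iso : Nonempty (Core ≃* chevG2.group (ZMod 5)) := by
  obtain ⟨h0, hle⟩ := card_core
  have := Nat.finite_of_card_ne_zero h0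
  let e : Core →* chevG2.group (ZMod 5) :=
    (MulEquiv.subgroupCongr range_adjHom).toMonoidHom.comp adjHom.rangeRestrict
  have hs : Function.Surjective e :=
    (MulEquiv.subgroupCongr range_adjHom).surjective.comp adjHom.rangeRestrict_surjective
  have hc : Nat.card (chevG2.group (ZMod 5)) = 5859000000 := by
    rw [Cfsg.Agent.S1059.result (ZMod.card 5)]
    norm_num
  have hge := Nat.card_le_card_of_surjective _ hs
  exact ⟨MulEquiv.ofBijective e ((Nat.bijective_iff_surjective_and_card e).2 ⟨hs, by omega⟩)⟩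

/-- The images of the six generators in the presented Lyons group. -/
noncomputable def lyVal (i : Fin 6) : Cfsg.Spor.Ly :=
  PresentedGroup.of ([Cfsg.Spor.Ly.Gen.a, .b, .c, .c5, .e, .d].getD i.1 .a)

/-- The first four radical generators as words in `a`, `b`, `c`. -/
def coreSubst : Cfsg.Spor.Ly.Gen → FreeGroup Cfsg.Spor.Ly.Gen
  | .c1 => Cfsg.Spor.Ly.c
  | .c2 => Cfsg.Spor.Ly.a⁻¹ * Cfsg.Spor.Ly.c * Cfsg.Spor.Ly.a
  | .c3 => Cfsg.Spor.Ly.b⁻¹ * Cfsg.Spor.Ly.c * Cfsg.Spor.Ly.b
  | .c4 => (Cfsg.Spor.Ly.b⁻¹)⁻¹ * Cfsg.Spor.Ly.c * Cfsg.Spor.Ly.b⁻¹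
  | g => FreeGroup.of g

/-- The free generators among the generators of the presentation. -/
def lyFree : List (FreeGroup Cfsg.Spor.Ly.Gen) :=
  [Cfsg.Spor.Ly.a, Cfsg.Spor.Ly.b, Cfsg.Spor.Ly.c, Cfsg.Spor.Ly.c5, Cfsg.Spor.Ly.e, Cfsg.Spor.Ly.d]

theorem subst_check : ∀ w ∈ leviRels ++ radicalRels ++ outerRels,
    ev (letterVal lyFree) w ∈ (Cfsg.Spor.Ly.extra.take 44).map (FreeGroup.lift coreSubst) := by
  decide +kernel

theorem defining_check : (Cfsg.Spor.Ly.extra.drop 5).take 4 =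
    [Cfsg.Spor.Ly.c1 * (coreSubst .c1)⁻¹, Cfsg.Spor.Ly.c2 * (coreSubst .c2)⁻¹,
      Cfsg.Spor.Ly.c3 * (coreSubst .c3)⁻¹, Cfsg.Spor.Ly.c4 * (coreSubst .c4)⁻¹] := rfl

theorem ly_rels : ∀ r ∈ leviRels ++ radicalRels ++ outerRels,
    ev (letterVal ((List.finRange 6).map lyVal)) r = 1 := by
  intro r hr
  set S := Cfsg.Spor.coxRelators Cfsg.Spor.Ly.edges ∪ {r | r ∈ Cfsg.Spor.Ly.extra} with hS
  have hsub : (PresentedGroup.mk S).comp (FreeGroup.lift coreSubst) = PresentedGroup.mk S := by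
    refine FreeGroup.ext_hom _ _ fun g => ?_
    have hdef : ∀ u ∈ (Cfsg.Spor.Ly.extra.drop 5).take 4, PresentedGroup.mk S u = 1 := fun u hu =>
      PresentedGroup.one_of_mem (Or.inr (List.mem_of_mem_drop (List.mem_of_mem_take hu)))
    rw [defining_check] at hdef
    simp only [List.mem_cons, List.not_mem_nil, or_false, forall_eq_or_imp, forall_eq, map_mul, map_inv,
      mul_inv_eq_one] at hdef
    simp only [MonoidHom.comp_apply, FreeGroup.lift_apply_of]
    obtain ⟨h1, h2, h3, h4⟩ := hdef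
    cases g
    case c1 => exact h1.symm
    case c2 => exact h2.symm
    case c3 => exact h3.symm
    case c4 => exact h4.symm
    all_goals rfl
  obtain ⟨u, hu, hue⟩ := List.mem_map.1 (subst_check r hr)
  have h : PresentedGroup.mk S (ev (letterVal lyFree) r) = 1 := by
    rw [← hue, ← MonoidHom.comp_apply, hsub]
    exact PresentedGroup.one_of_mem (Or.inr (List.mem_of_mem_take hu))
  rw [map_ev_letterVal] at h
  exact h

/-- The map to the presented Lyons group. -/
noncomputable def lyHom : Core →* Cfsg.Spor.Ly := coreHom lyVal ly_rels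

theorem lyHom_of (i : Fin 6) : lyHom (PresentedGroup.of i) = lyVal i := by
  unfold lyHom coreHom
  exact PresentedGroup.toGroup.of _

theorem range_lyHom : lyHom.range =
    (Subgroup.closure ({Cfsg.Spor.Ly.a, Cfsg.Spor.Ly.b, Cfsg.Spor.Ly.c, Cfsg.Spor.Ly.d} :
      Set (FreeGroup Cfsg.Spor.Ly.Gen))).map
      (PresentedGroup.mk (Cfsg.Spor.coxRelators Cfsg.Spor.Ly.edges ∪ {r | r ∈ Cfsg.Spor.Ly.extra})) := by
  rw [MonoidHom.range_eq_map, ← PresentedGroup.closure_range_of, MonoidHom.map_closure, MonoidHom.map_closure]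
  refine le_antisymm ((Subgroup.closure_le _).2 ?_) ((Subgroup.closure_le _).2 ?_)
  · set T := Subgroup.closure (PresentedGroup.mk (Cfsg.Spor.coxRelators Cfsg.Spor.Ly.edges ∪
      {r | r ∈ Cfsg.Spor.Ly.extra}) '' {Cfsg.Spor.Ly.a, Cfsg.Spor.Ly.b, Cfsg.Spor.Ly.c, Cfsg.Spor.Ly.d})
    have ha : lyVal 0 ∈ T := Subgroup.subset_closure ⟨Cfsg.Spor.Ly.a, by simp, rfl⟩
    have hb : lyVal 1 ∈ T := Subgroup.subset_closure ⟨Cfsg.Spor.Ly.b, by simp, rfl⟩
    have hc : lyVal 2 ∈ T := Subgroup.subset_closure ⟨Cfsg.Spor.Ly.c, by simp, rfl⟩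
    have hd : lyVal 5 ∈ T := Subgroup.subset_closure ⟨Cfsg.Spor.Ly.d, by simp, rfl⟩
    have hw : ∀ w : List ℕ, (∀ x ∈ w, x < 6 ∨ x = 10 ∨ x = 11) →
        ev (letterVal ((List.finRange 6).map lyVal)) w ∈ T := by
      intro w hwx
      refine T.list_prod_mem fun g hg => ?_
      obtain ⟨x, hx, rfl⟩ := List.mem_map.1 hg
      rcases hwx x hx with h | rfl | rfl
      · interval_cases x
        exacts [ha, T.inv_mem ha, hb, T.inv_mem hb, hc, T.inv_mem hc]
      · exact hd
      · exact T.inv_mem hd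
    have hfe : lyVal 3 ∈ T ∧ lyVal 4 ∈ T := by
      obtain ⟨hr, ho, er, eo, hx⟩ := Adj.defined_check
      constructor
      · have h := ly_rels _ hr
        rw [er, ev_cons] at h
        rw [show lyVal 3 = _ from eq_inv_of_mul_eq_one_left h]
        exact T.inv_mem (hw _ fun x hxm => hx x (List.mem_append_left _ hxm))
      · have h := ly_rels _ ho
        rw [eo, ev_cons] at h
        rw [show lyVal 4 = _ from eq_inv_of_mul_eq_one_left h]
        exact T.inv_mem (hw _ fun x hxm => hx x (List.mem_append_right _ hxm))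
    rintro _ ⟨_, ⟨i, rfl⟩, rfl⟩
    rw [SetLike.mem_coe, lyHom_of]
    fin_cases i
    exacts [ha, hb, hc, hfe.1, hfe.2, hd]
  · rintro _ ⟨u, hu, rfl⟩
    simp only [Set.mem_insert_iff, Set.mem_singleton_iff] at hu
    rcases hu with rfl | rfl | rfl | rfl
    exacts [Subgroup.subset_closure ⟨_, ⟨0, rfl⟩, lyHom_of 0⟩, Subgroup.subset_closure ⟨_, ⟨1, rfl⟩, lyHom_of 1⟩,
      Subgroup.subset_closure ⟨_, ⟨2, rfl⟩, lyHom_of 2⟩, Subgroup.subset_closure ⟨_, ⟨5, rfl⟩, lyHom_of 5⟩]

theorem lyHom_injective : Function.Injective lyHom := by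
  obtain ⟨e⟩ := core_iso
  have := (Cfsg.Agent.S1055.result (F := ZMod 5) ⟨2, by decide, by decide⟩).1
  have hsimple : IsSimpleGroup Core := e.isSimpleGroup
  rw [← MonoidHom.ker_eq_bot_iff]
  refine lyHom.normal_ker.eq_bot_or_eq_top.resolve_right fun h => ?_
  obtain ⟨f, hf⟩ := Big.exists_hom
  refine hf ?_
  have h0 : lyHom (PresentedGroup.of 0) = 1 := MonoidHom.mem_ker.1 (h ▸ Subgroup.mem_top _)
  rw [lyHom_of] at h0
  rw [show PresentedGroup.of Cfsg.Spor.Ly.Gen.a = lyVal 0 from rfl, h0, map_one]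

/-- The subgroup spanned by `a, b, c, d` in the presented Lyons group is `G₂(5)`. -/
theorem exists_iso : ∃ (K : Type) (_ : Field K) (_ : Fintype K), Fintype.card K = 5 ∧
    Nonempty ((((Subgroup.closure ({Cfsg.Spor.Ly.a, Cfsg.Spor.Ly.b, Cfsg.Spor.Ly.c, Cfsg.Spor.Ly.d} :
      Set (FreeGroup Cfsg.Spor.Ly.Gen))).map
      (PresentedGroup.mk (Cfsg.Spor.coxRelators Cfsg.Spor.Ly.edges ∪ {r | r ∈ Cfsg.Spor.Ly.extra})))) ≃*
        Cfsg.Lie.chevG2.group K) := by
  obtain ⟨e⟩ := core_iso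
  refine ⟨ZMod 5, inferInstance, inferInstance, ZMod.card 5, ⟨?_⟩⟩
  exact ((MonoidHom.ofInjective lyHom_injective).trans (MulEquiv.subgroupCongr range_lyHom)).symm.trans e

end CfsgLib.Spor.Ly
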